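import Groth.Agent.AVDegPoly.DetVal
import Groth.Agent.IsogLib.Product

/-!
# The degree of the endomorphism of a power given by an integer matrix
-/

set_option autoImplicit false
set_option linter.style.haveILetI false
set_option linter.unusedSectionVars false
set_option backward.isDefEq.respectTransparency false
set_option backward.isDefEq.respectTransparency.types false
set_option synthInstance.maxHeartbeats 400000

universe u v

open CategoryTheory CategoryTheory.Limits MonoidalCategory CartesianMonoidalCategory AlgebraicGeometry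
open scoped CategoryTheory.Obj MonObj

noncomputable section

namespace Groth.Agent.AVPowMat

section Smith

/-- An integer matrix with nonzero determinant is diagonalised by unimodular matrices. -/
theorem exists_diag {r : ℕ} (α : Matrix (Fin r) (Fin r) ℤ) (h : α.det ≠ 0) :
    ∃ (P Q : Matrix (Fin r) (Fin r) ℤ) (a : Fin r → ℤ), IsUnit P.det ∧ IsUnit Q.det ∧
      α = P * Matrix.diagonal a * Q := by
  classical
  let b := Pi.basisFun ℤ (Fin r)
  let f := Matrix.toLin b b α
  have hinj : Function.Injective f := by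
    refine (injective_iff_map_eq_zero f).2 fun m hm => ?_
    have h' : α.mulVec (b.repr m) = 0 := by
      rw [show α = LinearMap.toMatrix b b f from (LinearMap.toMatrix_toLin b b α).symm,
        LinearMap.toMatrix_mulVec_repr, hm, map_zero]
      rfl
    by_contra hne
    refine h (Matrix.exists_mulVec_eq_zero_iff.1 ⟨_, fun h0 => hne ?_, h'⟩)
    exact b.repr.injective (by rw [map_zero]; exact Finsupp.ext fun i => congrFun h0 i)
  have hrank : Module.finrank ℤ (LinearMap.range f) = Module.finrank ℤ (Fin r → ℤ) :=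
    LinearMap.finrank_range_of_inj hinj
  obtain ⟨b', a, ab', hab⟩ := Submodule.exists_smith_normal_form_of_rank_eq b hrank
  let x := ab'.map (LinearEquiv.ofInjective f hinj).symm
  have hfx : ∀ i, f (x i) = a i • b' i := fun i => by
    rw [← hab i, Module.Basis.map_apply]
    exact congrArg Subtype.val ((LinearEquiv.ofInjective f hinj).apply_symm_apply (ab' i))
  have hdiag : LinearMap.toMatrix x b' f = Matrix.diagonal a := by
    ext i j
    rw [LinearMap.toMatrix_apply, hfx, map_smul, Module.Basis.repr_self, Finsupp.smul_single, smul_eq_mul,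
      _root_.mul_one, Matrix.diagonal_apply, Finsupp.single_apply]
    by_cases h : i = j
    · subst h; simp
    · rw [if_neg h, if_neg fun h' : j = i => h h'.symm]
  refine ⟨b.toMatrix b', x.toMatrix b, a, Matrix.isUnit_det_of_right_inverse (b.toMatrix_mul_toMatrix_flip b'),
    Matrix.isUnit_det_of_right_inverse (x.toMatrix_mul_toMatrix_flip b), ?_⟩
  rw [← hdiag, basis_toMatrix_mul_linearMap_toMatrix_mul_basis_toMatrix b x b b' f, LinearMap.toMatrix_toLin]

/-- A multiplicative function with the value of a power of the absolute value on scalars is that of the determinant. -/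
theorem eq_det_pow {r g : ℕ} (f : Matrix (Fin r) (Fin r) ℤ → ℕ)
    (hmul : ∀ α β, α.det ≠ 0 → β.det ≠ 0 → f (α * β) = f α * f β)
    (hsc : ∀ d : ℤ, d ≠ 0 → f (Matrix.diagonal fun _ => d) = d.natAbs ^ (r * g))
    (α : Matrix (Fin r) (Fin r) ℤ) (h : α.det ≠ 0) : f α = α.det.natAbs ^ g := by
  classical
  have hone : f 1 = 1 := by
    rw [← Matrix.diagonal_one, show (fun _ : Fin r => (1 : ℤ)) = fun _ => 1 from rfl]
    rw [hsc 1 one_ne_zero, Int.natAbs_one, one_pow]
  have hinv : ∀ α β : Matrix (Fin r) (Fin r) ℤ, α * β = 1 → f α = 1 := fun α β hαβ => by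
    have hdet : α.det * β.det = 1 := by rw [← Matrix.det_mul, hαβ, Matrix.det_one]
    have := hmul α β (left_ne_zero_of_mul (hdet.trans_ne one_ne_zero))
      (right_ne_zero_of_mul (hdet.trans_ne one_ne_zero))
    rw [hαβ, hone] at this
    exact Nat.eq_one_of_mul_eq_one_right this.symm
  have hunit : ∀ P : Matrix (Fin r) (Fin r) ℤ, IsUnit P.det → f P = 1 := fun P hP =>
    hinv P P⁻¹ (Matrix.mul_nonsing_inv P hP)
  -- the elementary diagonal matrices
  let D : Fin r → ℤ → Matrix (Fin r) (Fin r) ℤ := fun i d => Matrix.diagonal (Function.update (fun _ => 1) i d)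
  have hD0 : ∀ i d, d ≠ 0 → (D i d).det ≠ 0 := fun i d hd => by
    rw [Matrix.det_diagonal, Finset.prod_ne_zero_iff]
    intro j _
    rcases eq_or_ne j i with rfl | hji
    · rwa [Function.update_self]
    · rw [Function.update_of_ne hji]; exact one_ne_zero
  have hprod : ∀ (s : Finset (Fin r)) (a : Fin r → ℤ), (∀ i, a i ≠ 0) →
      f (Matrix.diagonal fun j => if j ∈ s then a j else 1) = ∏ i ∈ s, f (D i (a i)) := by
    intro s a ha
    induction s using Finset.induction_on with
    | empty => simp [hone]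
    | insert i s hi ih =>
      rw [Finset.prod_insert hi, ← ih, ← hmul _ _ (hD0 i (a i) (ha i)) ?_, Matrix.diagonal_mul_diagonal]
      · congr 1
        refine congrArg Matrix.diagonal (funext fun j => ?_)
        rcases eq_or_ne j i with rfl | hji
        · simp [hi]
        · simp [Function.update_of_ne hji, hji]
      · rw [Matrix.det_diagonal, Finset.prod_ne_zero_iff]
        intro j _
        split_ifs
        · exact ha j
        · exact one_ne_zero
  have hsym : ∀ i j d, d ≠ 0 → f (D i d) = f (D j d) := by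
    intro i j d hd
    let σ : Equiv.Perm (Fin r) := Equiv.swap i j
    have e : D i d = σ.permMatrix ℤ * D j d * σ.permMatrix ℤ := by
      ext a b
      rw [Matrix.mul_assoc, PEquiv.toMatrix_toPEquiv_mul, PEquiv.mul_toMatrix_toPEquiv]
      simp only [Matrix.submatrix_apply, id_eq]
      simp only [D, Matrix.diagonal_apply]
      have hs : σ.symm b = σ b := by simp [σ]
      rw [hs]
      by_cases hab : a = b
      · subst hab
        rw [if_pos rfl, if_pos rfl]
        rcases eq_or_ne a i with rfl | hai
        · rw [Function.update_self, Equiv.swap_apply_left, Function.update_self]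
        · rw [Function.update_of_ne hai, Function.update_of_ne]
          exact fun h' => hai (σ.injective (h'.trans (Equiv.swap_apply_left i j).symm))
      · rw [if_neg hab, if_neg (fun h' => hab (σ.injective h'))]
    have hσ : IsUnit (σ.permMatrix ℤ).det := by
      rw [Matrix.det_permutation]
      exact (σ.sign).isUnit
    rw [e, hmul _ _ ?_ hσ.ne_zero, hmul _ _ hσ.ne_zero (hD0 j d hd), hunit _ hσ, one_mul, mul_one]
    rw [Matrix.det_mul]
    exact mul_ne_zero hσ.ne_zero (hD0 j d hd)
  have hval : ∀ i d, d ≠ 0 → f (D i d) = d.natAbs ^ g := by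
    intro i d hd
    have h1 := hprod Finset.univ (fun _ => d) (fun _ => hd)
    simp only [Finset.mem_univ, if_true] at h1
    rw [hsc d hd, Finset.prod_congr rfl (fun j _ => hsym j i d hd), Finset.prod_const, Finset.card_univ,
      Fintype.card_fin, mul_comm r g, pow_mul] at h1
    exact (Nat.pow_left_injective (Fin.pos i).ne' h1).symm
  obtain ⟨P, Q, a, hP, hQ, rfl⟩ := exists_diag α h
  rw [Matrix.det_mul, Matrix.det_mul] at h
  have ha : (Matrix.diagonal a).det ≠ 0 := (mul_ne_zero_iff.1 (mul_ne_zero_iff.1 h).1).2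
  have ha' : ∀ i, a i ≠ 0 := fun i => by
    rw [Matrix.det_diagonal] at ha
    exact Finset.prod_ne_zero_iff.1 ha i (Finset.mem_univ i)
  have h2 := hprod Finset.univ a ha'
  simp only [Finset.mem_univ, if_true] at h2
  rw [hmul _ _ (by rw [Matrix.det_mul]; exact mul_ne_zero hP.ne_zero ha) hQ.ne_zero, hmul _ _ hP.ne_zero ha,
    hunit P hP, hunit Q hQ, one_mul, mul_one, h2, Finset.prod_congr rfl (fun i _ => hval i (a i) (ha' i)),
    Finset.prod_pow, Matrix.det_mul, Matrix.det_mul, Int.natAbs_mul, Int.natAbs_mul,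
    Int.isUnit_iff_natAbs_eq.1 hP, Int.isUnit_iff_natAbs_eq.1 hQ, one_mul, mul_one, Matrix.det_diagonal]
  congr 1
  exact (map_prod Int.natAbsHom a Finset.univ).symm

end Smith

section Cat

variable {C : Type*} [Category C] [CartesianMonoidalCategory C] [HasFiniteProducts C] [BraidedCategory C]
  (X : C) [GrpObj X] [IsCommMonObj X] (r : ℕ)

/-- The power. -/
abbrev pw : C := ∏ᶜ fun _ : Fin r => X

variable {X r}

theorem proj_ext {T : C} {a b : T ⟶ pw X r} (h : ∀ i, a ≫ Pi.π (fun _ : Fin r => X) i = b ≫ Pi.π (fun _ : Fin r => X) i) :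
    a = b := Pi.hom_ext _ _ h

theorem comp_prod {T T' : C} (g : T' ⟶ T) (h : Fin r → (T ⟶ X)) : g ≫ ∏ j, h j = ∏ j, (g ≫ h j) :=
  map_prod (MonoidHom.mk' (fun z : T ⟶ X => g ≫ z) fun a b => MonObj.comp_mul g a b) h _

variable (X r) in
/-- The group law on the power. -/
@[implicit_reducible]
def grpPow : GrpObj (pw X r) where
  one := Pi.lift fun _ => η[X]
  mul := Pi.lift fun i => (fst (pw X r) (pw X r) ≫ Pi.π _ i) * (snd (pw X r) (pw X r) ≫ Pi.π _ i)
  one_mul := proj_ext fun i => by
    rw [Category.assoc, Pi.lift_π, MonObj.comp_mul, whiskerRight_fst_assoc, whiskerRight_snd_assoc, Pi.lift_π,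
      leftUnitor_hom, show fst (𝟙_ C) (pw X r) ≫ η[X] = (1 : _ ⟶ X) by
        rw [Hom.one_def, toUnit_unique (toUnit _) (fst _ _)], _root_.one_mul]
  mul_one := proj_ext fun i => by
    rw [Category.assoc, Pi.lift_π, MonObj.comp_mul, whiskerLeft_fst_assoc, whiskerLeft_snd_assoc, Pi.lift_π,
      rightUnitor_hom, show snd (pw X r) (𝟙_ C) ≫ η[X] = (1 : _ ⟶ X) by
        rw [Hom.one_def, toUnit_unique (toUnit _) (snd _ _)], _root_.mul_one]
  mul_assoc := proj_ext fun i => by
    simp only [Category.assoc, Pi.lift_π, MonObj.comp_mul, whiskerRight_fst_assoc, whiskerRight_snd_assoc,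
      whiskerLeft_fst_assoc, whiskerLeft_snd_assoc, associator_hom_fst_assoc, associator_hom_snd_fst_assoc,
      associator_hom_snd_snd_assoc, _root_.mul_assoc]
  inv := Pi.lift fun i => (Pi.π _ i)⁻¹
  left_inv := proj_ext fun i => by
    rw [Category.assoc, Pi.lift_π, MonObj.comp_mul, lift_fst_assoc, lift_snd_assoc, Category.id_comp, Pi.lift_π,
      inv_mul_cancel, Category.assoc, Pi.lift_π, Hom.one_def]
  right_inv := proj_ext fun i => by
    rw [Category.assoc, Pi.lift_π, MonObj.comp_mul, lift_fst_assoc, lift_snd_assoc, Category.id_comp, Pi.lift_π,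
      mul_inv_cancel, Category.assoc, Pi.lift_π, Hom.one_def]

attribute [local instance] grpPow

theorem isMonHom_proj (i : Fin r) : IsMonHom (Pi.π (fun _ : Fin r => X) i) := by
  refine ⟨Pi.lift_π _ _, ?_⟩
  show Pi.lift _ ≫ _ = _
  rw [Pi.lift_π, Hom.mul_def, ← lift_fst_comp_snd_comp]

theorem isCommMonObj_pow : IsCommMonObj (pw X r) := ⟨proj_ext fun i => by
  haveI := isMonHom_proj (X := X) i
  rw [Category.assoc, IsMonHom.mul_hom, ← Category.assoc, ← BraidedCategory.braiding_naturality, Category.assoc,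
    IsCommMonObj.mul_comm]⟩

theorem id_zpow_proj (d : ℤ) (i : Fin r) :
    (𝟙 (pw X r) ^ d) ≫ Pi.π (fun _ : Fin r => X) i = Pi.π (fun _ : Fin r => X) i ^ d := by
  haveI := isMonHom_proj (X := X) i
  rw [GrpObj.zpow_comp, Category.id_comp]

variable {P : C} (p : Fin r → (P ⟶ X))

/-- The map given by a matrix. -/
def mat (α : Matrix (Fin r) (Fin r) ℤ) : pw X r ⟶ pw X r :=
  Pi.lift fun i => ∏ j : Fin r, (Pi.π (fun _ : Fin r => X) j) ^ (α i j)

theorem isMonHom_mat (α : Matrix (Fin r) (Fin r) ℤ) : IsMonHom (mat (X := X) α) := by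
  constructor
  · refine proj_ext fun i => ?_
    haveI := isMonHom_proj (X := X) i
    rw [Category.assoc, IsMonHom.one_hom (Pi.π (fun _ : Fin r => X) i), mat, Pi.lift_π, comp_prod]
    have e1 : η[X] = (1 : 𝟙_ C ⟶ X) := by rw [Hom.one_def, toUnit_unique (toUnit _) (𝟙 _), Category.id_comp]
    trans (1 : 𝟙_ C ⟶ X)
    · refine Finset.prod_eq_one fun j _ => ?_
      haveI := isMonHom_proj (X := X) j
      rw [GrpObj.comp_zpow, IsMonHom.one_hom, e1, one_zpow]
    · exact e1.symm
  · refine proj_ext fun i => ?_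
    haveI := isMonHom_proj (X := X) i
    rw [Category.assoc, Category.assoc, IsMonHom.mul_hom (Pi.π (fun _ : Fin r => X) i), ← Category.assoc (mat α ⊗ₘ mat α),
      MonoidalCategory.tensorHom_comp_tensorHom, mat, Pi.lift_π, comp_prod,
      ← lift_fst_comp_snd_comp, ← Hom.mul_def, comp_prod, comp_prod, ← Finset.prod_mul_distrib]
    refine Finset.prod_congr rfl fun j _ => ?_
    haveI := isMonHom_proj (X := X) j
    rw [GrpObj.comp_zpow, GrpObj.comp_zpow, GrpObj.comp_zpow, ← mul_zpow, IsMonHom.mul_hom, Hom.mul_def,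
      lift_fst_comp_snd_comp]

theorem prod_zpow_eq {G : Type*} [CommGroup G] (a : G) {J : Type*} (s : Finset J) (n : J → ℤ) :
    ∏ i ∈ s, a ^ n i = a ^ ∑ i ∈ s, n i := by
  classical
  induction s using Finset.induction_on with
  | empty => simp
  | insert i s hi ih => rw [Finset.prod_insert hi, Finset.sum_insert hi, ih, zpow_add]

theorem mat_comp (α β : Matrix (Fin r) (Fin r) ℤ) : mat (X := X) β ≫ mat α = mat (α * β) := by
  refine proj_ext fun i => ?_
  rw [Category.assoc, mat, mat, mat, Pi.lift_π, Pi.lift_π, comp_prod]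
  simp only [GrpObj.comp_zpow, Pi.lift_π, ← Finset.prod_zpow, ← _root_.zpow_mul, Matrix.mul_apply]
  rw [Finset.prod_comm]
  refine Finset.prod_congr rfl fun l _ => ?_
  rw [prod_zpow_eq]
  exact congrArg _ (Finset.sum_congr rfl fun j _ => mul_comm _ _)

theorem mat_diag (d : ℤ) : mat (X := X) (r := r) (Matrix.diagonal fun _ => d) = 𝟙 (pw X r) ^ d := by
  refine proj_ext fun i => ?_
  rw [id_zpow_proj, mat, Pi.lift_π, Finset.prod_eq_single i]
  · rw [Matrix.diagonal_apply_eq]
  · intro j _ hj
    rw [Matrix.diagonal_apply_ne _ (Ne.symm hj), zpow_zero]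
  · intro h; exact absurd (Finset.mem_univ i) h

end Cat

section AV

attribute [local instance] grpPow

variable {k : Type u} [Field k] (X : Over (Spec (CommRingCat.of k))) [GrpObj X] [IsCommMonObj X]
  [IsProper X.hom] [GeometricallyIntegral X.hom]

theorem pow_isAV (r g : ℕ) (hg : topologicalKrullDim X.left = g) :
    IsProper (pw X r).hom ∧ GeometricallyIntegral (pw X r).hom ∧
      topologicalKrullDim (pw X r).left = ((r * g : ℕ) : WithBot ℕ∞) := by
  obtain ⟨Q, _, _, q, hQp, hQi, hQd, hqm, hqe, hql⟩ :=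
    IsogLib.exists_product r (fun _ : Fin r => X) (fun _ => g) fun _ => hg
  haveI := fun i : Fin r => isMonHom_proj (X := X) i
  obtain ⟨h, -, hh⟩ := hql (X := pw X r) (fun i => Pi.π (fun _ : Fin r => X) i)
  let h' : Q ⟶ pw X r := Pi.lift q
  let e : pw X r ≅ Q :=
    { hom := h
      inv := h'
      hom_inv_id := proj_ext fun i => by rw [Category.assoc, Pi.lift_π, hh, Category.id_comp]
      inv_hom_id := hqe _ _ fun i => by rw [Category.assoc, hh, Category.id_comp]; exact Pi.lift_π _ _ }
  let el : (pw X r).left ≅ Q.left := (Over.forget _).mapIso e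
  haveI := hQp
  haveI := hQi
  have hw : el.hom ≫ Q.hom = (pw X r).hom := Over.w h
  refine ⟨?_, ?_, ?_⟩
  · rw [← hw]; infer_instance
  · rw [← hw]
    exact (MorphismProperty.cancel_left_of_respectsIso @GeometricallyIntegral el.hom Q.hom).2 hQi
  · rw [IsHomeomorph.topologicalKrullDim_eq el.hom el.hom.homeomorph.isHomeomorph, hQd, Finset.sum_const,
      Finset.card_univ, Fintype.card_fin, smul_eq_mul]

/-- The degree of the endomorphism given by a matrix. -/
theorem degree_mat (r g : ℕ) (hg : topologicalKrullDim X.left = g) (α : Matrix (Fin r) (Fin r) ℤ)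
    (hα : α.det ≠ 0) :
    IsFinite (mat (X := X) α).left ∧ Flat (mat (X := X) α).left ∧
      ∀ y : (pw X r).left, Scheme.Hom.finrank (mat (X := X) α).left y = α.det.natAbs ^ (2 * g) := by
  obtain ⟨hp, hi, hd⟩ := pow_isAV X r g hg
  haveI := hp
  haveI := hi
  haveI : IsCommMonObj (pw X r) := isCommMonObj_pow
  have hfin : ∀ β : Matrix (Fin r) (Fin r) ℤ, β.det ≠ 0 → IsFinite (mat (X := X) β).left := by
    intro β hβ
    have e : β.adjugate * β = Matrix.diagonal fun _ => β.det := by
      rw [Matrix.adjugate_mul, Matrix.smul_one_eq_diagonal]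
    have h1 := (AVDegLib.zpow_props (A := pw X r) β.det hβ).1
    rw [← mat_diag, ← e, ← mat_comp, Over.comp_left] at h1
    haveI := h1
    haveI : IsSeparated (mat (X := X) β.adjugate).left := by
      haveI : IsSeparated ((mat (X := X) β.adjugate).left ≫ (pw X r).hom) := by rw [Over.w]; infer_instance
      exact IsSeparated.of_comp _ (pw X r).hom
    exact IsFinite.of_comp (mat (X := X) β).left (mat (X := X) β.adjugate).left
  obtain ⟨y₀⟩ : Nonempty (pw X r).left := by
    haveI : IsIntegral (pw X r).left := GeometricallyIntegral.isIntegral_of_subsingleton (pw X r).hom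
    infer_instance
  have key := eq_det_pow (g := 2 * g) (fun β => Scheme.Hom.finrank (mat (X := X) β).left y₀) ?_ ?_ α hα
  · haveI := hfin α hα
    haveI := isMonHom_mat (X := X) α
    refine ⟨inferInstance, (AVDegPoly.finite_props (mat (X := X) α) hd hd).2.1, fun y => ?_⟩
    rw [AVDegPoly.finrank_const hd hd (mat (X := X) α) y y₀]
    exact key
  · intro β δ hβ hδ
    have hβδ : (β * δ).det ≠ 0 := by rw [Matrix.det_mul]; exact mul_ne_zero hβ hδ
    haveI := hfin β hβ
    haveI := hfin δ hδ
    haveI := hfin _ hβδ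
    haveI := isMonHom_mat (X := X) β
    haveI := isMonHom_mat (X := X) δ
    haveI := isMonHom_mat (X := X) (β * δ)
    show Scheme.Hom.finrank _ y₀ = _ * _
    rw [AVDegPoly.finrank_comp hd hd hd (mat (X := X) δ) (mat (X := X) β) (mat (X := X) (β * δ)) (mat_comp β δ) y₀ y₀,
      mul_comm]
  · intro d hd'
    show Scheme.Hom.finrank _ y₀ = _
    rw [mat_diag, AVDegLib.finrank_zpow hd d hd']
    congr 1
    ring

end AV

end Groth.Agent.AVPowMat
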